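import Groth.Prelude.Def_ThetaS
import Groth.Prelude.Def_Magnet4
import Groth.Agent.GrpScheme.Ext
import Mathlib.AlgebraicGeometry.Morphisms.SchemeTheoreticallyDominant

/-!
# The multiplicative group inside the affine line
-/

set_option autoImplicit false
set_option backward.isDefEq.respectTransparency false

universe u

noncomputable section

open CategoryTheory CategoryTheory.Limits MonoidalCategory CartesianMonoidalCategory MonObj AlgebraicGeometry Opposite
open scoped TensorProduct

namespace Groth.Agent.InstabLib.GmLine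

variable {R : Type u} [CommRing R]

/-- The inclusion `t ↦ t`. -/
abbrev incl (R : Type u) [CommRing R] : ThetaS.Gm R ⟶ ThetaS.Line R :=
  (CoactBr.pt (ThetaS.linePt (ThetaS.zPow R 1)) : ThetaS.Gm R ⟶ ThetaS.Line R)

theorem pt_incl {K : Type u} [CommRing K] [Algebra R K] (g : ThetaS.Lau R →ₐ[R] K) :
    CoactBr.pt g ≫ incl R = CoactBr.pt (ThetaS.linePt (g (ThetaS.zPow R 1))) := by
  rw [incl, ← CoactBr.pt_comp]
  congr 1
  exact Polynomial.algHom_ext (by simp [ThetaS.linePt])

theorem whisker_incl_act :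
    (ThetaS.Gm R ◁ incl R) ≫ (ThetaS.lineAction R).act = μ[ThetaS.Gm R] ≫ incl R := by
  refine Magnet.hom_ext_pt ?_
  rw [lift_whiskerLeft_assoc, pt_incl, ThetaS.lineAction_pt, ← Category.assoc, ← Hom.mul_def, CoactBr.pt_mul_pt,
    pt_incl]
  congr 2
  simp [Bialgebra.comulAlgHom_apply]

theorem lift_incl_act {W : Over (Spec (CommRingCat.of R))} (g g' : W ⟶ ThetaS.Gm R) :
    CartesianMonoidalCategory.lift g (g' ≫ incl R) ≫ (ThetaS.lineAction R).act = (g * g') ≫ incl R := by
  rw [← lift_whiskerLeft_assoc, whisker_incl_act, ← Category.assoc, ← Hom.mul_def]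

theorem isSchemeTheoreticallyDominant_whiskerRight (A : Type u) [CommRing A] [Algebra R A] :
    IsSchemeTheoreticallyDominant (incl R ▷ CoactBr.sp R A).left := by
  let φ : Polynomial R →ₐ[R] ThetaS.Lau R := ThetaS.linePt (ThetaS.zPow R 1)
  let ψ : Polynomial R ⊗[R] A →ₐ[R] ThetaS.Lau R ⊗[R] A := Algebra.TensorProduct.map φ (AlgHom.id R A)
  have hφ : ∀ p, φ p = Finsupp.linearCombination R (fun n : ℕ => ThetaS.zPow R (n : ℤ)) p.toFinsupp.coeff := by
    intro p
    induction p using Polynomial.induction_on' with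
    | add p q hp hq => simp [hp, hq]
    | monomial n a =>
      change Polynomial.aeval (ThetaS.zPow R 1) (Polynomial.monomial n a) = _
      rw [Polynomial.aeval_monomial]
      simp [Polynomial.toFinsupp_monomial, ThetaS.zPow, MonoidAlgebra.single_pow, Algebra.smul_def, ← ofAdd_nsmul]
  have hinj : Function.Injective ψ := by
    obtain ⟨r, hr⟩ : ∃ r : ThetaS.Lau R →ₗ[R] Polynomial R, r ∘ₗ φ.toLinearMap = LinearMap.id := by
      refine ⟨(Finsupp.linearCombination R fun m : Multiplicative ℤ => (Polynomial.X : Polynomial R) ^ m.toAdd.toNat) ∘ₗ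
        (MonoidAlgebra.coeffLinearEquiv R).toLinearMap, ?_⟩
      refine Polynomial.lhom_ext' fun n => LinearMap.ext_ring ?_
      rw [LinearMap.id_comp, LinearMap.comp_apply, LinearMap.comp_apply, LinearMap.comp_apply, AlgHom.toLinearMap_apply, hφ]
      simp [Polynomial.toFinsupp_monomial, ThetaS.zPow, Polynomial.X_pow_eq_monomial]
    intro x y h
    have h' : φ.toLinearMap.rTensor A x = φ.toLinearMap.rTensor A y := h
    simpa only [← LinearMap.comp_apply, ← LinearMap.rTensor_comp, hr, LinearMap.rTensor_id, LinearMap.id_apply]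
      using congrArg (r.rTensor A) h'
  let cψ : CommRingCat.of (Polynomial R ⊗[R] A) ⟶ CommRingCat.of (ThetaS.Lau R ⊗[R] A) := CommRingCat.ofHom ψ.toRingHom
  have : IsSchemeTheoreticallyDominant (Spec.map cψ) := by
    rw [isSchemeTheoreticallyDominant_iff]
    refine Scheme.IdealSheafData.ext_of_isAffine ?_
    simp only [Scheme.Hom.ker_apply, Scheme.IdealSheafData.ideal_bot, Pi.bot_apply]
    rw [← RingHom.injective_iff_ker_eq_bot]
    intro x y hxy
    have h1 := congr($(Scheme.ΓSpecIso_naturality cψ) x)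
    have h2 := congr($(Scheme.ΓSpecIso_naturality cψ) y)
    apply (Scheme.ΓSpecIso _).commRingCatIsoToRingEquiv.injective
    apply hinj
    exact h1.symm.trans ((congrArg _ hxy).trans h2)
  have h : (pullbackSpecIso R (ThetaS.Lau R) A).inv ≫ (incl R ▷ CoactBr.sp R A).left =
      Spec.map cψ ≫ (pullbackSpecIso R (Polynomial R) A).inv := by
    refine pullback.hom_ext ?_ ?_
    · rw [Category.assoc, Category.assoc]
      erw [pullbackSpecIso_inv_fst, Over.whiskerRight_left_fst, reassoc_of% pullbackSpecIso_inv_fst]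
      change Spec.map _ ≫ Spec.map _ = _
      rw [← Spec.map_comp, ← Spec.map_comp]
      congr 1
    · rw [Category.assoc, Category.assoc]
      erw [pullbackSpecIso_inv_snd, Over.whiskerRight_left_snd, pullbackSpecIso_inv_snd]
      rw [← Spec.map_comp]
      congr 1
      refine CommRingCat.hom_ext (RingHom.ext fun a => ?_)
      change (1 : ThetaS.Lau R) ⊗ₜ[R] a = ψ (1 ⊗ₜ a)
      simp [ψ]
  rw [Iso.inv_comp_eq] at h
  rw [h]
  infer_instance

variable {X : Over (Spec (CommRingCat.of R))} [IsSeparated X.hom]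

/-- Morphisms out of `A¹ × T` into a separated scheme are determined on `G_m × T`. -/
theorem hom_ext (T : Over (Spec (CommRingCat.of R))) {a b : ThetaS.Line R ⊗ T ⟶ X}
    (h : (incl R ▷ T) ≫ a = (incl R ▷ T) ≫ b) : a = b := by
  refine Over.OverMorphism.ext (Scheme.Cover.hom_ext
    (T.left.affineOpenCover.openCover.pullback₁ (pullback.snd (ThetaS.Line R).hom T.hom)) _ _ fun i => ?_)
  let g : Spec (T.left.affineOpenCover.X i) ⟶ T.left := T.left.affineOpenCover.f i
  obtain ⟨φ, hφ⟩ := Spec.map_surjective (g ≫ T.hom)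
  letI : Algebra R (T.left.affineOpenCover.X i) := φ.hom.toAlgebra
  let Ti : Over (Spec (CommRingCat.of R)) := CoactBr.sp R (T.left.affineOpenCover.X i)
  let j : Ti ⟶ T := Over.homMk g hφ.symm
  let π₀ : pullback (pullback.snd (ThetaS.Line R).hom T.hom) g ⟶ pullback (ThetaS.Line R).hom Ti.hom :=
    pullback.lift (pullback.fst _ _ ≫ pullback.fst _ _) (pullback.snd _ _) (by
      rw [show Ti.hom = g ≫ T.hom from hφ, Category.assoc, pullback.condition, ← Category.assoc, pullback.condition,
        Category.assoc])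
  have hk : π₀ ≫ (ThetaS.Line R ◁ j).left = pullback.fst (pullback.snd (ThetaS.Line R).hom T.hom) g := by
    refine pullback.hom_ext ?_ ?_
    · rw [Category.assoc, Over.whiskerLeft_left_fst, pullback.lift_fst]
    · rw [Category.assoc, Over.whiskerLeft_left_snd, pullback.lift_snd_assoc]
      exact pullback.condition.symm
  have key : (ThetaS.Line R ◁ j) ≫ a = (ThetaS.Line R ◁ j) ≫ b := by
    have := isSchemeTheoreticallyDominant_whiskerRight (R := R) (T.left.affineOpenCover.X i)
    refine Over.OverMorphism.ext (GrpScheme.Ext.ext_of_schematicallyDominant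
      (incl R ▷ Ti).left X.hom ?_ ?_)
    · rw [Over.w, Over.w]
    · rw [← Over.comp_left, ← Over.comp_left, ← whisker_exchange_assoc, ← whisker_exchange_assoc, h]
  have e : ∀ (c : ThetaS.Line R ⊗ T ⟶ X), pullback.fst (pullback.snd (ThetaS.Line R).hom T.hom) g ≫ c.left =
      π₀ ≫ ((ThetaS.Line R ◁ j) ≫ c).left := fun c =>
    (congrArg (· ≫ c.left) hk).symm.trans (Category.assoc _ _ _)
  exact ((e a).trans (congrArg (π₀ ≫ ·) (congrArg CommaMorphism.left key))).trans (e b).symm

end Groth.Agent.InstabLib.GmLine
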